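import Cfsg.Agent.O83.W0

/-!
The setting for groups containing `Ω₈⁺(2)` with a large extraspecial subgroup: a frame of
`Q = O₂(C(z))`, a Levi complement `S₃ × S₃ × S₃`, codes of their actions.
-/

set_option autoImplicit false

namespace Cfsg.Lib.O83

open Cfsg Cfsg.Lib.SporChar Cfsg.Lib.SporChar.Co Cfsg.Lib.Local Cfsg.Lib.Spor Subgroup
open scoped Pointwise

/-- Words of the frame. -/
def gw (k : ℕ) : List ℕ := [[4885, 4375], [7447, 7957], [37777, 4881], [4433, 4947], [35032, 51352],
  [54854, 50774], [27748, 31860], [34956, 40088], [20062, 19548]].getD k []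

/-- The frame of `O₂(C(z))` in `Ω₈⁺(2)`. -/
def F0 : Frame Om8 where
  g k := W (gw k)
  sq i hi := by
    rw [← W_append, ← W_nil]
    exact W_eq ((by decide +kernel : ∀ i < 9, chk (gw i ++ gw i) [] = true) i hi)
  comm i hi j hj h1 h2 := by
    change _ * _ = _ * _
    rw [← W_append, ← W_append]
    exact W_eq ((by decide +kernel : ∀ i < 9, ∀ j < 9, ¬ (i = j + 4 ∧ i < 8) → ¬ (j = i + 4 ∧ j < 8) →
      chk (gw i ++ gw j) (gw j ++ gw i) = true) i hi j hj h1 h2)
  rel k hk := by
    rw [← W_cj, ← W_append]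
    exact W_eq ((by decide +kernel : ∀ k < 4, chk (cj (gw k) (gw (k + 4))) (gw (k + 4) ++ gw 8) = true)
      k hk)
  ne := by rw [← W_nil]; exact W_ne (by decide +kernel)

/-- The concatenation of the words selected by the bits of `n`. -/
def pbw : List (List ℕ) → ℕ → List ℕ
  | [], _ => []
  | x :: l, n => (if n % 2 = 1 then x else []) ++ pbw l (n / 2)

theorem W_pbw (ls : List (List ℕ)) (n : ℕ) : W (pbw ls n) = pb (ls.map W) n := by
  induction ls generalizing n with
  | nil => rfl
  | cons x l ih => simp only [pbw, List.map_cons, pb, W_append, ih, apply_ite W, W_nil]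

/-- The word of the element of `Q` with code `i`. -/
def frw (i : ℕ) : List ℕ := pbw ((List.range 8).map gw) i ++ if i / 256 % 2 = 1 then gw 8 else []

theorem fr_F0 (i : ℕ) : F0.fr i = W (frw i) := by
  rw [Frame.fr_eq, frw, W_append, W_pbw, List.map_map, apply_ite W, W_nil]; rfl

theorem z_F0 : F0.z = W (gw 8) := rfl

/-- Check that a word acts on the frame by the code `κ`. -/
def actsB (l : List ℕ) (κ : ℕ) : Bool :=
  chk (cj l (gw 8)) (gw 8) && (List.range 8).all fun k => chk (cj l (gw k)) (frw (fld κ k))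

theorem acts_F0 {l : List ℕ} {κ : ℕ} (h : actsB l κ = true) : F0.Acts (W l) κ := by
  simp only [actsB, Bool.and_eq_true, List.all_eq_true, List.mem_range] at h
  exact ⟨(W_cj _ _).symm.trans (W_eq h.1), fun k hk =>
    (W_cj _ _).symm.trans ((W_eq (h.2 k hk)).trans (fr_F0 _).symm)⟩

/-- Three commuting elements of order three. -/
def τw (k : ℕ) : List ℕ := [[38197, 45719], [20126, 54356], [51790, 40602]].getD k []

/-- Three commuting involutions; `sw k` inverts `τw k` and centralises the other two. -/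
def sw (k : ℕ) : List ℕ := [[54100, 22225], [8999, 42915], [41704, 9836]].getD k []

/-- The codes of `τw k`. -/
def κτ (k : ℕ) : ℕ :=
  [1195616914989683605632, 2954938382557516924674, 300053474198913552388].getD k 0

/-- The codes of `sw k`. -/
def κs (k : ℕ) : ℕ :=
  [1195616914954242753537, 1184051514431285233153, 300052347164060553220].getD k 0

theorem actsB_τ : ∀ k < 3, actsB (τw k) (κτ k) = true := by decide +kernel
theorem actsB_s : ∀ k < 3, actsB (sw k) (κs k) = true := by decide +kernel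

/-- The eight products of the `sw k`. -/
def bw (j : ℕ) : List ℕ := pbw [sw 0, sw 1, sw 2] j

/-- The `n`-fold repetition of a word. -/
def rep (l : List ℕ) (n : ℕ) : List ℕ := (List.replicate n l).flatten

/-- The elements of the group of order 108 centralising the new element of order three. -/
def lw (n : ℕ) : List ℕ := rep (τw 0) (n % 3) ++ rep (τw 1) (n / 3 % 3) ++ rep (τw 2) (n / 9 % 3) ++
  rep (bw 3) (n / 27 % 2) ++ rep (bw 6) (n / 54 % 2)

/-- The code of the new element of order three. -/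
def κρ : ℕ := 2082514736855307949702

/-- The code of the transvection `tv 78`, which centralises `z`. -/
def κd : ℕ := 3100223408123099743242

/-- The type of a code modulo the centre: `0` zero, `1` pure (27), `2` class `u` (54), `3, 4, 5` the
classes `t₁, t₂, t₃` (18 each), `6` weight one (12), `7` weight three (108). -/
def typ (i : ℕ) : ℕ := Nat.land (Nat.shiftRight 0x3fcf57eaf9f9f924b76bffd3eb27d7597ebb894ffffff369e9fc975ba5fbabf57ffccfe15975dfcbaebbffffff4a4b49ed75f2c975fb4b7dd24fffd3bd7e7c5eff39fff514fffa699f95fd5fd9f9fd5fd5fe1fe1ebdf39ebdf392d96596c9248 (Nat.mul 3 (Nat.land i 255))) 7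

/-- The twelve vectors of weight one: `pv k j` is vector `j` of plane `k`. -/
def pv (k j : ℕ) : ℕ :=
  ([[221, 182, 107], [214, 109, 187], [119, 158, 233], [121, 238, 151]].getD k []).getD j 0

/-- The number of vectors fixed by a code. -/
def nfix (κ : ℕ) : ℕ := countLT 256 fun v => Nat.beq (evM κ v) v

/-- The roots of the letters of the diagram: the chain `12, 11, 1, …, 6` gives the transpositions
`(12), (23), …, (89)` and letter `8` is the root `{7, 8, 9}`. -/
def rt (i : ℕ) : ℕ := [136, 138, 100, 70, 218, 84, 69, 136, 68, 136, 136, 76, 136].getD i 136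

/-- A Sylow 2-subgroup of `Ω₈⁺(2)`. -/
def U0 : Subgroup Om8 := F0.sub ⊔ closure {W (sw 0), W (sw 1), W (sw 2)}

/-- The codes of `bw j`. -/
def κb (j : ℕ) : ℕ := [1181745669222511412225, 1195616914954242753537, 1184051514431285233153,
  1197940774836403963393, 300052347164060553220, 332478282210753122308, 300628816712591218692,
  333126809422041192452].getD j 0

theorem actsB_b : ∀ j < 8, actsB (bw j) (κb j) = true := by decide +kernel

/-- A Sylow 2-subgroup of `O₈⁺(2)`. -/
def U1 : Subgroup O8 := U0.map Om8.subtype ⊔ zpowers (tv 78)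

/-- The word `nw` conjugates `z` to the element with code `5`. -/
def nw : List ℕ := [36121]

theorem nw_z : W nw * F0.z * (W nw)⁻¹ = F0.fr 5 := by
  rw [z_F0, ← W_cj, fr_F0]; exact W_eq (by decide +kernel)

/-- The elements of `U0`. -/
def FSy : Prop := (∀ x : Om8, x ∈ U0 ↔ ∃ i < 512, ∃ j < 8, x = F0.fr i * W (bw j)) ∧
  Nat.card U0 = 4096

/-- The elements of `U1`. -/
def FSy1 : Prop := (∀ x : O8, x ∈ U1 ↔ ∃ y ∈ U0, x = y ∨ x = y * tv 78) ∧ Nat.card U1 = 8192 ∧
  tv 78 ∉ Om8 ∧ (F0.map Om8.subtype fun h => F0.ne (Subtype.ext h)).Acts (tv 78) κd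

/-- The classes of the involutions of `Q`. -/
def FCls : Prop := ∀ i < 512, (typ i = 1 → IsConj F0.z (F0.fr i)) ∧
  (typ i = 2 → IsConj (F0.fr 427) (F0.fr i)) ∧ (typ i = 3 → IsConj (F0.fr 11) (F0.fr i)) ∧
  (typ i = 4 → IsConj (F0.fr 161) (F0.fr i)) ∧ (typ i = 5 → IsConj (F0.fr 170) (F0.fr i))

/-- Every involution is conjugate into `Q`. -/
def FInv : Prop := ∀ x : Om8, x * x = 1 → ∃ i < 512, IsConj (F0.fr i) x

/-- Generators. -/
def FGen : Prop := ∀ M : Subgroup Om8, F0.sub ≤ M → (∀ k < 3, W (τw k) ∈ M ∧ W (sw k) ∈ M) →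
  W (cj nw (gw 4)) ∈ M → M = ⊤

/-- Irreducibility. -/
def FIrr : Prop := ∀ p : ℕ → Prop, (∀ a < 256, ∀ b < 256, p a → p b → p (a ^^^ b)) →
  (∀ k < 3, ∀ a < 256, p a → p (evM (κτ k) a) ∧ p (evM (κs k) a)) →
  ∀ v < 256, v ≠ 0 → p v → ∀ w < 256, p w

variable (G : Type*) [Group G]

/-- The setting. -/
structure St where
  /-- the embedding -/
  θ : Om8 →* G
  inj : Function.Injective θ
  lx : PreLX (F0.sub.map θ) (θ F0.z)
  h13 : ¬ 2 ^ 14 ∣ Nat.card G

variable {G}

namespace St

variable (S : St G)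

/-- The value of a word. -/
def T (l : List ℕ) : G := S.θ (W l)

/-- The image of the frame. -/
def F : Frame G := F0.map S.θ fun h => F0.ne (S.inj (h.trans (map_one _).symm))

/-- The image of `Ω₈⁺(2)`. -/
abbrev K : Subgroup G := S.θ.range

/-- The image has odd index. -/
def Od : Prop := Odd S.K.index

/-- The second case: the class `u` is fused to `z`. -/
def II : Prop := IsConj S.F.z (S.F.fr 427)

/-- Every 2-subgroup of `C(z)` is conjugate in `C(z)` into the image of `U0`. -/
def Syl : Prop := ∀ P : Subgroup G, IsPGroup 2 P → P ≤ centralizer {S.F.z} →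
  ∃ c, c * S.F.z = S.F.z * c ∧ ∀ x ∈ P, ∃ i < 512, ∃ j < 8, c * x * c⁻¹ = S.F.fr i * S.T (bw j)

/-- Abelian subgroups of conjugates of `Q` have order at most 32. -/
def Ab : Prop := ∀ (g : G) (A : Subgroup G), A ≤ MulAut.conj g • S.F.sub →
  (∀ a ∈ A, ∀ b ∈ A, a * b = b * a) → Nat.card A ≤ 32

/-- The classes `t₁, t₂, t₃` are not fused to `z`. -/
def TF : Prop := ¬ IsConj S.F.z (S.F.fr 11) ∧ ¬ IsConj S.F.z (S.F.fr 161) ∧
  ¬ IsConj S.F.z (S.F.fr 170)

/-- The conjugates of `z` in `Q`; `n = 1` is the first and `n = 2` the second case. -/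
def Pt (n : ℕ) : Prop := ∀ i < 512, IsConj S.F.z (S.F.fr i) ↔ i = 256 ∨ typ i = 1 ∨ typ i = n

/-- The centraliser of `z` preserves the vectors of weight one. -/
def Mon : Prop := ∀ c κ, S.F.Acts c κ → ∀ v < 256, typ v = 6 → typ (evM κ v) = 6

/-- Some element of `C(z)` maps the pure vector `5` to the vector `171` of class `u`. -/
def Mv : Prop := ∃ c κ, S.F.Acts c κ ∧ evM κ 5 = 171

/-- Some element of `C(z)` rotates all four planes. -/
def Rot : Prop := ∃ c κ, S.F.Acts c κ ∧ ∀ v < 256, evM κ v = evM κρ v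

theorem T_nil : S.T [] = 1 := map_one _
theorem T_append (l l' : List ℕ) : S.T (l ++ l') = S.T l * S.T l' := by rw [T, W_append, map_mul]; rfl
theorem T_winv (l : List ℕ) : S.T (winv l) = (S.T l)⁻¹ := by rw [T, W_winv, map_inv]; rfl
theorem T_cj (k l : List ℕ) : S.T (cj k l) = S.T k * S.T l * (S.T k)⁻¹ := by
  rw [cj, T_append, T_append, T_winv]
theorem T_eq_iff {l l' : List ℕ} : S.T l = S.T l' ↔ chk l l' = true := S.inj.eq_iff.trans W_eq_iff
theorem T_eq {l l' : List ℕ} (h : chk l l' = true) : S.T l = S.T l' := S.T_eq_iff.2 h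
theorem T_ne {l l' : List ℕ} (h : chk l l' = false) : S.T l ≠ S.T l' := S.inj.ne (W_ne h)
theorem T_mem (l : List ℕ) : S.T l ∈ S.K := ⟨_, rfl⟩
theorem fr_θ (i : ℕ) : S.F.fr i = S.θ (F0.fr i) := F0.fr_map _ _ i
theorem fr_T (i : ℕ) : S.F.fr i = S.T (frw i) := by rw [fr_θ, fr_F0]; rfl
theorem z_θ : S.F.z = S.θ F0.z := rfl
theorem z_T : S.F.z = S.T (gw 8) := rfl
theorem sub_eq : S.F.sub = F0.sub.map S.θ := F0.sub_map _ _
theorem lxF : PreLX S.F.sub S.F.z := S.sub_eq ▸ S.lx
theorem sub_le : S.F.sub ≤ S.K := S.sub_eq ▸ map_le_range _ _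
theorem acts_T {l : List ℕ} {κ : ℕ} (h : actsB l κ = true) : S.F.Acts (S.T l) κ :=
  (acts_F0 h).map _ _
theorem acts_τ {k : ℕ} (hk : k < 3) : S.F.Acts (S.T (τw k)) (κτ k) := S.acts_T (actsB_τ k hk)
theorem acts_s {k : ℕ} (hk : k < 3) : S.F.Acts (S.T (sw k)) (κs k) := S.acts_T (actsB_s k hk)

theorem exists_acts {c : G} (hc : c * S.F.z = S.F.z * c) : ∃ κ, S.F.Acts c κ :=
  Frame.exists_acts (S.lxF.norm (mem_centralizer_singleton_iff.2 hc))

/-- The setting twisted by an inner automorphism. -/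
def tw (k : List ℕ) : St G where
  θ := S.θ.comp (MulAut.conj (W k)).toMonoidHom
  inj := S.inj.comp (MulAut.conj (W k)).injective
  lx := by
    have := S.lx.conj (S.T k)
    convert this using 1
    · ext x
      simp only [mem_map, Subgroup.mem_pointwise_smul_iff_inv_smul_mem, MulAut.smul_def,
        MonoidHom.comp_apply, MulEquiv.coe_toMonoidHom, MulAut.conj_apply, map_mul, map_inv, T,
        MulAut.conj_inv_apply]
      exact exists_congr fun y => and_congr_right fun _ =>
        ⟨fun e => by rw [← e]; group, fun e => by rw [e]; group⟩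
    · simp [T]
  h13 := S.h13

theorem tw_T (k l : List ℕ) : (S.tw k).T l = S.T (cj k l) := by
  rw [T, T, W_cj]; rfl

theorem tw_K (k : List ℕ) : (S.tw k).K = S.K := by
  change (S.θ.comp _).range = _
  rw [MonoidHom.range_comp, MonoidHom.range_eq_top.2 (MulAut.conj (W k)).surjective,
    ← MonoidHom.range_eq_map]

theorem tw_fr (k : List ℕ) (i : ℕ) : (S.tw k).F.fr i = S.T k * S.F.fr i * (S.T k)⁻¹ := by
  rw [fr_T, tw_T, T_cj, fr_T]

theorem tw_z (k : List ℕ) : (S.tw k).F.z = S.T k * S.F.z * (S.T k)⁻¹ := by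
  rw [z_T, tw_T, T_cj, z_T]

theorem acts_b {j : ℕ} (hj : j < 8) : S.F.Acts (S.T (bw j)) (κb j) := S.acts_T (actsB_b j hj)

theorem nw_z : S.T nw * S.F.z * (S.T nw)⁻¹ = S.F.fr 5 := by
  rw [fr_θ, ← O83.nw_z, map_mul, map_mul, map_inv]; rfl

theorem isConj_θ {x y : Om8} (h : IsConj x y) : ∃ k ∈ S.K, k * S.θ x * k⁻¹ = S.θ y := by
  obtain ⟨k, rfl⟩ := isConj_iff.1 h
  exact ⟨S.θ k, ⟨k, rfl⟩, by simp⟩

/-- The setting restricted to a subgroup. -/
def res [Finite G] (L : Subgroup G) (h : S.K ≤ L) : St L where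
  θ := S.θ.codRestrict L fun x => h ⟨x, rfl⟩
  inj _ _ e := S.inj (congrArg Subtype.val e)
  lx := by
    have e : ∀ x : L, x ∈ F0.sub.map (S.θ.codRestrict L fun x => h ⟨x, rfl⟩) ↔
        (x : G) ∈ F0.sub.map S.θ := fun x => by simp only [mem_map, Subtype.ext_iff]; rfl
    have sp := F0.sympPair.map (S.θ.codRestrict L fun x => h ⟨x, rfl⟩)
      fun q _ e => S.inj ((congrArg Subtype.val e).trans (map_one _).symm)
    refine ⟨sp, fun c hc => ?_, fun c hc => ?_, fun k => S.lx.nab ?_⟩
    · have := S.lx.mem_iff.1 (S.lx.cent (show (c : G) ∈ centralizer _ from by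
        rintro _ ⟨q, hq, rfl⟩
        exact congrArg Subtype.val (hc _ ⟨q, hq, rfl⟩)))
      exact sp.mem_iff.2 (this.imp Subtype.ext Subtype.ext)
    · have := S.lx.norm (mem_centralizer_singleton_iff.2
        (congrArg Subtype.val (mem_centralizer_singleton_iff.1 hc)))
      exact mem_normalizer_iff.2 fun x => by
        rw [e, e]; exact mem_normalizer_iff.1 this x
    · rintro _ ⟨q, hq, rfl⟩
      exact S.lx.mem_iff.2 ((sp.mem_iff.1 (k ⟨q, hq, rfl⟩)).imp (congrArg Subtype.val)
        (congrArg Subtype.val))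
  h13 k := S.h13 (k.trans (card_subgroup_dvd_card L))

variable {S}

theorem Od.tw (h : S.Od) (k : List ℕ) : (S.tw k).Od := by unfold Od; rwa [tw_K]

theorem II.tw (h : S.II) (k : List ℕ) : (S.tw k).II := by
  unfold II
  rw [tw_fr, tw_z]
  exact (IsConj.symm (isConj_iff.2 ⟨_, rfl⟩)).trans (IsConj.trans h (isConj_iff.2 ⟨_, rfl⟩))

end St

/-- The setting with the full orthogonal group. -/
structure St1 (G : Type*) [Group G] extends St G where
  /-- the embedding of the full group -/
  θ1 : O8 →* G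
  inj1 : Function.Injective θ1
  ext : ∀ x : Om8, θ1 x = θ x
  odd : Odd θ1.range.index

end Cfsg.Lib.O83
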